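import Groth.Agent.Lib.AlgSpDecent.FiniteMin
import Groth.Agent.Lib.AlgSpDecent.ZeroDim
import Groth.Prelude.Def_AlgSpDec

/-!
# Zero dimensional quasi-separated spaces
-/

universe u

set_option backward.isDefEq.respectTransparency.types false

open CategoryTheory CategoryTheory.Limits AlgebraicGeometry AlgSp Opposite Topology

namespace Groth.Agent.DimZero15

open Groth.Agent.AlgSpDecent Groth.Agent.AlgSpace

theorem eq_of_specializes {X : Scheme.{u}} (h : topologicalKrullDim X ≤ 0) {a b : X} (hab : a ⤳ b) :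
    a = b := by
  let := specializationOrder X
  by_contra hne
  have h2 : (Order.coheight b : WithBot ℕ∞) ≤ topologicalKrullDim X := by
    rw [topologicalKrullDim, Order.krullDim_eq_of_orderIso (irreducibleSetEquivPoints (α := X))]
    exact Order.coheight_le_krullDim _
  have h3 : Order.coheight b = 0 := le_antisymm (by exact_mod_cast h2.trans h) zero_le
  exact hne ((Order.coheight_eq_zero.1 h3 (show b ≤ a from hab)).antisymm (show b ≤ a from hab))

/-- In a zero dimensional quasi-separated scheme the quasi-compact opens are closed. -/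
theorem isClosed_of_isCompact {X : Scheme.{u}} [QuasiSeparatedSpace X] (h : topologicalKrullDim X ≤ 0)
    (W : X.Opens) (hW : IsCompact (W : Set X)) : IsClosed (W : Set X) := by
  refine isOpen_compl_iff.1 (isOpen_iff_forall_mem_open.2 fun x hx => ?_)
  obtain ⟨O, hO, hxO, -⟩ := exists_isAffineOpen_mem_and_subset (X := X) (x := x) (U := ⊤) trivial
  refine ⟨(O : Set X) \ W, fun _ h => h.2, ?_, hxO, hx⟩
  let e := hO.isoSpec.inv ≫ O.ι
  have hs : ∀ a b : Spec Γ(X, O), a ⤳ b → a = b := fun a b hab =>
    e.isOpenEmbedding.injective (eq_of_specializes h (hab.map e.continuous))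
  have hr : Set.range e = O := by
    rw [show (Set.range e) = Set.range O.ι from (Scheme.Hom.comp_base _ _ ▸ (by
      rw [TopCat.coe_comp, Set.range_comp, Set.range_eq_univ.2 hO.isoSpec.inv.surjective, Set.image_univ]))]
    exact O.range_ι
  have hcl : IsClosed (e ⁻¹' (W : Set X)) := by
    have hc : IsCompact (e ⁻¹' (W : Set X)) := by
      rw [e.isOpenEmbedding.isInducing.isCompact_iff, Set.image_preimage_eq_inter_range, hr]
      exact QuasiSeparatedSpace.inter_isCompact _ _ W.isOpen hW O.isOpen hO.isCompact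
    obtain ⟨t, ht⟩ := PrimeSpectrum.isCompact_isOpen_iff.1 ⟨hc, W.isOpen.preimage e.continuous⟩
    rw [← ht, show (PrimeSpectrum.zeroLocus (t : Set Γ(X, O)))ᶜ =
        ⋃ r ∈ (t : Set Γ(X, O)), (PrimeSpectrum.basicOpen r : Set (PrimeSpectrum Γ(X, O))) by
      ext p
      simp [PrimeSpectrum.mem_zeroLocus, Set.not_subset]]
    refine t.finite_toSet.isClosed_biUnion fun r _ => ?_
    rw [← PrimeSpectrum.localization_away_comap_range (Localization.Away r)]
    exact PrimeSpectrum.stableUnderSpecialization_range_iff.1 fun a b hab ha => hs a b hab ▸ ha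
  obtain ⟨C, hC, hCe⟩ : ∃ C : Set (Spec Γ(X, O)), IsOpen C ∧ e '' C = (O : Set X) \ W :=
    ⟨_, hcl.isOpen_compl, by rw [← Set.preimage_compl, Set.image_preimage_eq_inter_range, hr,
      Set.diff_eq_compl_inter]⟩
  exact hCe ▸ e.isOpenEmbedding.isOpenMap _ hC

/-- In a zero dimensional quasi-separated scheme the quasi-compact opens are affine. -/
theorem isAffineOpen_of_isCompact {X : Scheme.{u}} [QuasiSeparatedSpace X]
    (h : topologicalKrullDim X ≤ 0) (V : X.Opens) (hV : IsCompact (V : Set X)) : IsAffineOpen V := by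
  refine compact_open_induction_on V hV (isAffineOpen_bot X) fun S hS U hSa => ?_
  let S' : X.Opens := ⟨(S : Set X)ᶜ, (isClosed_of_isCompact h S hS).isOpen_compl⟩
  have e : S ⊔ U.1 = S ⊔ (U.1 ⊓ S') := by
    apply SetLike.coe_injective
    simp [S', Set.union_inter_distrib_left]
  rw [e]
  refine hSa.sup_of_disjoint ?_ ?_
  · let j := X.homOfLE (inf_le_left : U.1 ⊓ S' ≤ U.1)
    have hr : Set.range j = (U.1.ι) ⁻¹' (S : Set X)ᶜ := by
      ext z
      constructor
      · rintro ⟨w, rfl⟩
        show U.1.ι (j w) ∈ (S : Set X)ᶜ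
        rw [← Scheme.Hom.comp_apply, Scheme.homOfLE_ι]
        exact w.2.2
      · intro hz
        refine ⟨⟨z.1, z.2, hz⟩, U.1.ι.isOpenEmbedding.injective ?_⟩
        rw [← Scheme.Hom.comp_apply, Scheme.homOfLE_ι]
        rfl
    have : IsClosedImmersion j := IsClosedImmersion.of_isPreimmersion j
      (hr ▸ S.isOpen.isClosed_compl.preimage U.1.ι.continuous)
    have : IsAffine U.1.toScheme := U.2
    exact isAffine_of_isAffineHom j
  · rw [disjoint_iff_inf_le]
    rintro z ⟨hz, -, hz'⟩
    exact absurd hz hz'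

/-- A zero dimensional quasi-separated scheme is separated. -/
theorem isSeparated {X : Scheme.{u}} [QuasiSeparatedSpace X] (h : topologicalKrullDim X ≤ 0) :
    X.IsSeparated := by
  suffices IsSeparated (terminal.from X) from ⟨this⟩
  refine ⟨?_⟩
  let I := {V : X.Opens // IsAffineOpen V}
  let W : I → (pullback (terminal.from X) (terminal.from X)).Opens := fun V =>
    pullback.fst (terminal.from X) (terminal.from X) ⁻¹ᵁ V.1 ⊓
      pullback.snd (terminal.from X) (terminal.from X) ⁻¹ᵁ V.1
  refine (IsZariskiLocalAtTarget.iff_of_iSup_eq_top (P := @IsClosedImmersion) W ?_).2 fun V => ?_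
  · refine top_le_iff.1 fun z _ => TopologicalSpace.Opens.mem_iSup.2 ?_
    obtain ⟨O₁, hO₁, h₁, -⟩ := exists_isAffineOpen_mem_and_subset (X := X)
      (x := pullback.fst (terminal.from X) (terminal.from X) z) (U := ⊤) trivial
    obtain ⟨O₂, hO₂, h₂, -⟩ := exists_isAffineOpen_mem_and_subset (X := X)
      (x := pullback.snd (terminal.from X) (terminal.from X) z) (U := ⊤) trivial
    exact ⟨⟨O₁ ⊔ O₂, isAffineOpen_of_isCompact h _ (hO₁.isCompact.union hO₂.isCompact)⟩,
      Or.inl h₁, Or.inr h₂⟩
  · have hp : pullback.diagonal (terminal.from X) ⁻¹ᵁ W V = V.1 := by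
      simp only [W, Scheme.Hom.preimage_inf, ← Scheme.Hom.comp_preimage, pullback.diagonal_fst,
        pullback.diagonal_snd, Scheme.Hom.id_preimage, inf_idem]
    have : IsAffine (V.1.toScheme) := V.2
    let p₁ : (W V).toScheme ⟶ V.1.toScheme :=
      IsOpenImmersion.lift V.1.ι ((W V).ι ≫ pullback.fst _ _) (by
        rintro _ ⟨w, rfl⟩; simpa using w.2.1)
    let p₂ : (W V).toScheme ⟶ V.1.toScheme :=
      IsOpenImmersion.lift V.1.ι ((W V).ι ≫ pullback.snd _ _) (by
        rintro _ ⟨w, rfl⟩; simpa using w.2.2)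
    let i := (X.isoOfEq hp).inv ≫ pullback.diagonal (terminal.from X) ∣_ W V
    have hi : i ≫ p₁ = 𝟙 _ := by
      rw [← cancel_mono V.1.ι]
      simp only [i, p₁, Category.assoc, IsOpenImmersion.lift_fac, morphismRestrict_ι_assoc,
        pullback.diagonal_fst, Category.comp_id, Category.id_comp, Scheme.isoOfEq_inv_ι]
    have hio : IsOpenImmersion ((W V).ι ≫ 𝟙 _) := inferInstance
    let c : (W V).toScheme ⟶ pullback (terminal.from V.1.toScheme) (terminal.from V.1.toScheme) :=
      pullback.lift p₁ p₂ (terminal.hom_ext _ _)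
    have hc : Mono c := ⟨fun a b e => (cancel_mono (W V).ι).1 (pullback.hom_ext
      (by
        have := congrArg (· ≫ pullback.fst _ _ ≫ V.1.ι) e
        simpa only [c, p₁, Category.assoc, pullback.lift_fst_assoc, IsOpenImmersion.lift_fac] using this)
      (by
        have := congrArg (· ≫ pullback.snd _ _ ≫ V.1.ι) e
        simpa only [c, p₂, Category.assoc, pullback.lift_snd_assoc, IsOpenImmersion.lift_fac] using this))⟩
    have hic : i ≫ c = pullback.diagonal (terminal.from V.1.toScheme) := by
      have hi₂ : i ≫ p₂ = 𝟙 _ := by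
        rw [← cancel_mono V.1.ι]
        simp only [i, p₂, Category.assoc, IsOpenImmersion.lift_fac, morphismRestrict_ι_assoc,
          pullback.diagonal_snd, Category.comp_id, Category.id_comp, Scheme.isoOfEq_inv_ι]
      apply pullback.hom_ext
      · rw [Category.assoc, pullback.lift_fst, hi, pullback.diagonal_fst]
      · rw [Category.assoc, pullback.lift_snd, hi₂, pullback.diagonal_snd]
    have : IsClosedImmersion (i ≫ c) := hic ▸ inferInstance
    have : IsSeparated c := inferInstance
    have : IsClosedImmersion i := IsClosedImmersion.of_comp i c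
    exact (MorphismProperty.cancel_left_of_respectsIso @IsClosedImmersion (X.isoOfEq hp).inv _).1 this

/-- A zero dimensional quasi-separated space is a separated scheme. -/
theorem exists_scheme {S : Scheme.{u}} [QuasiSeparatedSpace S] (X : Space S)
    (hqs : IsQuasiSeparatedSp X.obj) (hd : AlgSp.dim X.obj ≤ 0) :
    ∃ (U : Over S) (_ : (yon S).obj U ≅ X.obj), U.left.IsSeparated ∧
      ∀ V : U.left.Opens, IsCompact (V : Set ↥U.left) → IsAffineOpen V := by
  have hdim : ∀ {U : Over S} (a : (yon S).obj U ⟶ X.obj), RepWith @Etale a →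
      topologicalKrullDim ↥U.left ≤ 0 := fun {U} a ha =>
    (le_iSup_of_le U (le_iSup₂ (f := fun (b : (yon S).obj U ⟶ X.obj) (_ : RepWith @Etale b) =>
      topologicalKrullDim ↥U.left) a ha)).trans hd
  obtain ⟨A, q, hqe, hqs'⟩ := X.property.atlas
  obtain ⟨X', j, hj, hrep, -, hmem⟩ := exists_dense_of_zarLocQS X
    ⟨PUnit, fun _ => X, fun _ => 𝟙 X,
      ⟨fun _ => MorphismProperty.of_isIso (RepWith (S := S) @IsOpenImmersion) (𝟙 X.obj),
        fun y => ⟨PUnit.unit, y, Points.map_id y⟩⟩, fun _ => hqs⟩
  have hs : Function.Surjective (Points.map j.hom) := fun x => hmem x (by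
    obtain ⟨a, rfl⟩ := surjective_ofPt hqs' x
    refine ⟨A, q, a, hqe, rfl, ?_⟩
    show ringKrullDim (A.left.presheaf.stalk a) = 0
    letI := specializationPreorder A.left
    rw [ringKrullDim_stalk_eq_coheight]
    have : Order.coheight a = 0 := Order.coheight_eq_zero.2 fun b hb =>
      (eq_of_specializes (hdim q hqe) (show b ⤳ a from hb)) ▸ le_rfl
    rw [this]; rfl)
  have := isIso_of_isOpenImmersion_of_surjective hj hs
  have : IsIso j.hom.hom := inferInstance
  obtain ⟨Z, ⟨r⟩⟩ := hrep
  obtain ⟨U, ⟨e⟩⟩ := exists_yon_iso_of_isRepresentable (r.ofIso (asIso j.hom.hom)).isRepresentable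
  have hdU : topologicalKrullDim ↥U.left ≤ 0 :=
    hdim e.hom (MorphismProperty.of_isIso (RepWith (S := S) @Etale) e.hom)
  have hUqs : RepWith @QuasiCompact (Limits.diag ((yon S).obj U)) :=
    (MorphismProperty.cancel_right_of_respectsIso (RepWith (S := S) @QuasiCompact) _ (prod.map e.hom e.hom)).1 (by
      rw [show Limits.diag ((yon S).obj U) ≫ prod.map e.hom e.hom = e.hom ≫ Limits.diag X.obj from
        (prod.diag_map e.hom).trans (by rw [prod.comp_diag])]
      exact (MorphismProperty.cancel_left_of_respectsIso (RepWith (S := S) @QuasiCompact) e.hom _).2 hqs)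
  rw [AlgSp.diag_yon_obj,
    MorphismProperty.cancel_right_of_respectsIso (RepWith (S := S) @QuasiCompact), repWith_yon_map_iff] at hUqs
  have : QuasiSeparated U.hom := ⟨by
    rw [← AlgSp.diag_left_comp_prodLeftIsoPullback U]
    exact (MorphismProperty.cancel_right_of_respectsIso @QuasiCompact _ _).2 hUqs⟩
  have : QuasiSeparatedSpace U.left := quasiSeparatedSpace_of_quasiSeparated U.hom
  exact ⟨U, e, isSeparated hdU, fun V hV => isAffineOpen_of_isCompact hdU V hV⟩

end Groth.Agent.DimZero15
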